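import Mathlib.RingTheory.Etale.Kaehler
import Mathlib.RingTheory.Etale.StandardEtale
import Mathlib.RingTheory.Smooth.Flat
import Mathlib.FieldTheory.PrimitiveElement

/-!
# `H₁` of the cotangent complex along a finite separable extension of a residue field
-/

set_option autoImplicit false
set_option linter.style.haveILetI false
set_option backward.isDefEq.respectTransparency false
set_option backward.isDefEq.respectTransparency.types false

universe u

open TensorProduct Algebra Polynomial

namespace Groth.Agent.H9CotSep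

theorem mapKer_bijective {A B T : Type u} [CommRing A] [CommRing B] [CommRing T] [Algebra A B] [Algebra A T]
    [Algebra B T] [IsScalarTower A B T] {P : Algebra.Extension.{u} A B} {Q : Algebra.Extension.{u} A T}
    (f : P.Hom Q) [Algebra P.Ring Q.Ring] (halg : algebraMap P.Ring Q.Ring = f.toRingHom)
    [Module.Flat P.Ring Q.Ring]
    (hker : RingHom.ker (algebraMap Q.Ring T) ≤ P.ker.map (algebraMap P.Ring Q.Ring)) :
    Function.Bijective ((f.mapKer halg).liftBaseChange Q.Ring) := by
  refine ⟨?_, ?_⟩
  · have h1 := Module.Flat.lTensor_preserves_injective_linearMap (M := Q.Ring)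
      P.ker.subtype Subtype.val_injective
    intro a b hab
    apply h1
    apply (TensorProduct.rid P.Ring Q.Ring).injective
    have h2 : ∀ z : Q.Ring ⊗[P.Ring] P.ker,
        TensorProduct.rid P.Ring Q.Ring (LinearMap.lTensor Q.Ring P.ker.subtype z) =
          ((f.mapKer halg).liftBaseChange Q.Ring z).val := by
      intro z
      induction z with
      | zero => simp
      | add x y hx hy => simp only [map_add, Submodule.coe_add, hx, hy]
      | tmul q i =>
        simp only [LinearMap.lTensor_tmul, TensorProduct.rid_tmul, LinearMap.liftBaseChange_tmul,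
          Submodule.coe_subtype, SetLike.val_smul, Algebra.Extension.Hom.mapKer_apply_coe,
          smul_eq_mul]
        rw [Algebra.smul_def, halg, mul_comm]
    rw [h2, h2, hab]
  · intro q
    have hle : P.ker.map (algebraMap P.Ring Q.Ring) ≤
        Submodule.map (Submodule.subtype _) (LinearMap.range ((f.mapKer halg).liftBaseChange Q.Ring)) := by
      refine Ideal.map_le_iff_le_comap.2 fun i hi => ?_
      exact ⟨_, ⟨1 ⊗ₜ ⟨i, hi⟩, rfl⟩, by simp [LinearMap.liftBaseChange_tmul, halg]⟩
    obtain ⟨q', ⟨z, hz⟩, hq'⟩ := hle (hker q.2)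
    exact ⟨z, hz.trans (Subtype.ext hq')⟩

/-- The hom from the tautological extension to any extension. -/
noncomputable def fromSelf {R S : Type u} [CommRing R] [CommRing S] [Algebra R S]
    (P : Algebra.Extension.{u} R S) : (Generators.self R S).toExtension.Hom P where
  toRingHom := (MvPolynomial.aeval (R := R) P.σ).toRingHom
  toRingHom_algebraMap r := (MvPolynomial.aeval (R := R) P.σ).commutes r
  algebraMap_toRingHom p := by
    show ((IsScalarTower.toAlgHom R P.Ring S).comp (MvPolynomial.aeval (R := R) P.σ)) p =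
      MvPolynomial.aeval (R := R) (id : S → S) p
    exact DFunLike.congr_fun (MvPolynomial.algHom_ext fun i => by simp) p

theorem bijective_map_fromSelf {R S : Type u} [CommRing R] [CommRing S] [Algebra R S]
    (P : Algebra.Extension.{u} R S) [Algebra.FormallySmooth R P.Ring] :
    Function.Bijective (Extension.H1Cotangent.map (fromSelf P)) := by
  haveI : FormallySmooth R (Generators.self R S).toExtension.Ring :=
    inferInstanceAs (FormallySmooth R (MvPolynomial _ _))
  rw [← Extension.H1Cotangent.equivOfFormallySmooth_toLinearMap (fromSelf P)]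
  exact LinearEquiv.bijective _

theorem bijective {Λ κ k : Type u} [CommRing Λ] [Field κ] [Field k] [Algebra Λ κ] [Algebra Λ k] [Algebra κ k]
    [IsScalarTower Λ κ k] [Module.Finite κ k] [Algebra.IsSeparable κ k]
    (hsurj : Function.Surjective (algebraMap Λ κ)) :
    Function.Bijective ((Algebra.H1Cotangent.map Λ Λ κ k).liftBaseChange k) := by
  let pb := Field.powerBasisOfFiniteOfSeparable κ k
  have hint : IsIntegral κ pb.gen := pb.isIntegral_gen
  have hmem : minpoly κ pb.gen ∈ lifts (algebraMap Λ κ) :=
    (lifts_iff_coeff_lifts _).2 fun n => hsurj _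
  obtain ⟨g, hg, -, hgm⟩ := lifts_and_degree_eq_and_monic hmem (minpoly.monic hint)
  let E : StandardEtalePair Λ :=
    { f := g, monic_f := hgm, g := derivative g, cond := ⟨1, 0, 1, by simp⟩ }
  have hev : ∀ q : Λ[X], aeval pb.gen q = aeval pb.gen (q.map (algebraMap Λ κ)) := fun q =>
    (aeval_map_algebraMap κ pb.gen q).symm
  have hmap : E.HasMap pb.gen := by
    refine ⟨by rw [hev, hg, minpoly.aeval], ?_⟩
    rw [hev, ← derivative_map, hg]
    exact ((Algebra.IsSeparable.isSeparable κ pb.gen).aeval_derivative_ne_zero (minpoly.aeval κ pb.gen)).isUnit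
  let φ : E.Ring →ₐ[Λ] k := E.lift pb.gen hmap
  have hφ : φ E.X = pb.gen := E.lift_X _ _
  have hφs : Function.Surjective φ := by
    intro y
    obtain ⟨p, -, rfl⟩ := pb.exists_eq_aeval y
    obtain ⟨q, rfl⟩ := map_surjective (algebraMap Λ κ) hsurj p
    exact ⟨aeval E.X q, by rw [← aeval_algHom_apply, hφ, hev]⟩
  let P : Algebra.Extension.{u} Λ κ := .ofSurjective (Algebra.ofId Λ κ) hsurj
  let Q : Algebra.Extension.{u} Λ k := .ofSurjective φ hφs
  let f : P.Hom Q :=
    { toRingHom := algebraMap Λ E.Ring
      toRingHom_algebraMap := fun r => rfl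
      algebraMap_toRingHom := fun r => by
        show φ (algebraMap Λ E.Ring r) = algebraMap κ k (algebraMap Λ κ r)
        rw [AlgHom.commutes, ← IsScalarTower.algebraMap_apply] }
  letI : Algebra P.Ring Q.Ring := (inferInstance : Algebra Λ E.Ring)
  haveI : Algebra.FormallySmooth Λ P.Ring := inferInstanceAs (Algebra.FormallySmooth Λ Λ)
  haveI : Algebra.FormallySmooth Λ Q.Ring := inferInstanceAs (Algebra.FormallySmooth Λ E.Ring)
  haveI : Module.Flat P.Ring Q.Ring := inferInstanceAs (Module.Flat Λ E.Ring)
  let mB : Ideal E.Ring := (RingHom.ker (algebraMap Λ κ)).map (algebraMap Λ E.Ring)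
  let θ₀ : κ →+* E.Ring ⧸ mB := RingHom.liftOfRightInverse (algebraMap Λ κ) (Function.surjInv hsurj)
    (Function.rightInverse_surjInv hsurj)
    ⟨(Ideal.Quotient.mk mB).comp (algebraMap Λ E.Ring), fun x hx =>
      Ideal.Quotient.eq_zero_iff_mem.2 (Ideal.mem_map_of_mem _ hx)⟩
  have hθ₀ : ∀ a, θ₀ (algebraMap Λ κ a) = Ideal.Quotient.mk mB (algebraMap Λ E.Ring a) := fun a =>
    RingHom.liftOfRightInverse_comp_apply _ _ _ _ a
  letI : Algebra κ (E.Ring ⧸ mB) := θ₀.toAlgebra
  haveI : IsScalarTower Λ κ (E.Ring ⧸ mB) := IsScalarTower.of_algebraMap_eq fun a => (hθ₀ a).symm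
  let θ : k →ₐ[κ] E.Ring ⧸ mB := pb.lift (Ideal.Quotient.mk mB E.X) (by
    rw [← hg, aeval_map_algebraMap, ← Ideal.Quotient.mkₐ_eq_mk Λ, aeval_algHom_apply,
      E.hasMap_X.1, map_zero])
  have hθ : (θ.restrictScalars Λ).comp φ = Ideal.Quotient.mkₐ Λ mB :=
    E.hom_ext (by
      show θ (φ E.X) = Ideal.Quotient.mk mB E.X
      rw [hφ]
      exact pb.lift_gen _ _)
  have hker : RingHom.ker (algebraMap Q.Ring k) ≤ P.ker.map (algebraMap P.Ring Q.Ring) := by
    intro z hz
    have h0 : φ z = 0 := hz
    have h1 : Ideal.Quotient.mk mB z = 0 := by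
      rw [← Ideal.Quotient.mkₐ_eq_mk Λ, ← hθ]
      show θ (φ z) = 0
      rw [h0, map_zero]
    exact Ideal.Quotient.eq_zero_iff_mem.1 h1
  have H₁ : f.toRingHom.FormallyEtale := by
    show (algebraMap Λ E.Ring).FormallyEtale
    exact RingHom.formallyEtale_algebraMap.2 inferInstance
  have hf : Function.Bijective ((Extension.H1Cotangent.map f).liftBaseChange k) :=
    (Extension.tensorH1CotangentOfFormallyEtale f rfl H₁ (mapKer_bijective f rfl hker)).bijective
  let δ : (Generators.self Λ κ).toExtension.Hom (Generators.self Λ k).toExtension :=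
    (Generators.defaultHom _ _).toExtensionHom
  let G := Extension.H1Cotangent.map (fromSelf Q)
  let G₀ := LinearEquiv.ofBijective _ (bijective_map_fromSelf P)
  have key : ∀ w, G ((Algebra.H1Cotangent.map Λ Λ κ k).liftBaseChange k w) =
      (Extension.H1Cotangent.map f).liftBaseChange k (G₀.baseChange κ k _ _ w) := by
    intro w
    induction w with
    | zero => simp
    | add x y hx hy => simp only [map_add, hx, hy]
    | tmul a x =>
      simp only [LinearMap.liftBaseChange_tmul, LinearEquiv.baseChange_tmul, map_smul]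
      congr 1
      show Extension.H1Cotangent.map (fromSelf Q) (Extension.H1Cotangent.map δ x) =
        Extension.H1Cotangent.map f (Extension.H1Cotangent.map (fromSelf P) x)
      rw [← Extension.H1Cotangent.map_comp_apply, ← Extension.H1Cotangent.map_comp_apply,
        Extension.H1Cotangent.map_eq]
  refine (Function.Bijective.of_comp_iff' (bijective_map_fromSelf Q) _).1 ?_
  rw [show (⇑(Extension.H1Cotangent.map (fromSelf Q)) ∘
      ⇑((Algebra.H1Cotangent.map Λ Λ κ k).liftBaseChange k)) = _ from funext key]
  exact hf.comp (LinearEquiv.bijective _)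

end Groth.Agent.H9CotSep
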